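import Cfsg.Agent.H383.M5.UniTori
import Cfsg.Agent.H777.M5.Elim5Def
import Cfsg.Agent.H749.Val

/-!
# `PSU_n(q)` with Sylow 5-subgroup of order `5 ^ 8` or `5 ^ 9`

`row_psu`: such a group has an abelian 5-subgroup of order at least `5 ^ 5`.
-/

set_option autoImplicit false

namespace Cfsg.Agent.H383.M5.RowPSU

open Subgroup Cfsg Cfsg.Agent.H777.Elim5 Matrix Cfsg.Agent.H383.M5.UniTori
open Cfsg.Agent.LieClassical.HermBasic Cfsg.Agent.H749

theorem AbP.big {N : ℕ} {K : Type*} [Group K] (h : AbP 5 N K) (hN : 5 ≤ N) : Big5 K := h.mono (by norm_num) hN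

/-! ### Numbers -/

/-- the product in the order formula -/
def pr (n q : ℕ) : ℕ := ∏ i ∈ Finset.range n, (if Even i then q ^ (i + 1) + 1 else q ^ (i + 1) - 1)

theorem pr_eq {q : ℕ} (hq : 1 ≤ q) (n : ℕ) :
    (∏ i ∈ Finset.range n, ((-(q : ℤ)) ^ (i + 1) - 1)).natAbs = pr n q := by
  unfold pr
  induction n with
  | zero => rfl
  | succ n ih =>
    rw [Finset.prod_range_succ, Finset.prod_range_succ, Int.natAbs_mul, ih]
    congr 1
    split_ifs with h
    · rw [h.add_one.neg_pow]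
      have : (-(q : ℤ) ^ (n + 1) - 1) = -((q ^ (n + 1) + 1 : ℕ) : ℤ) := by push_cast; ring
      rw [this, Int.natAbs_neg, Int.natAbs_natCast]
    · rw [(Nat.not_even_iff_odd.1 h).add_one.neg_pow]
      have h1 : 1 ≤ q ^ (n + 1) := Nat.one_le_pow _ _ hq
      have : ((q : ℤ) ^ (n + 1) - 1) = ((q ^ (n + 1) - 1 : ℕ) : ℤ) := by
        rw [Nat.cast_sub h1]; push_cast; ring
      rw [this, Int.natAbs_natCast]

theorem pow_ne {q : ℕ} (hq : 2 ≤ q) (i : ℕ) (hi : i ≠ 0) : (-(q : ℤ)) ^ i ≠ 1 := by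
  intro h
  have h1 := congrArg Int.natAbs h
  rw [Int.natAbs_pow, Int.natAbs_neg, Int.natAbs_natCast, Int.natAbs_one] at h1
  have := Nat.one_lt_pow hi (show 1 < q by omega)
  omega

theorem pr_ne {q : ℕ} (hq : 2 ≤ q) (n : ℕ) : pr n q ≠ 0 := by
  unfold pr
  refine Finset.prod_ne_zero_iff.2 fun i _ => ?_
  split_ifs
  · omega
  · have := Nat.one_lt_pow (n := i + 1) (by omega) (show 1 < q by omega)
    omega

/-- general valuation of the product -/
theorem v_gen {q e : ℕ} (hq : 2 ≤ q) (he : orderOf (((-(q : ℤ) : ℤ)) : ZMod 5) = e) (n : ℕ) :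
    (pr n q).factorization 5 = (n / e) * ((-(q : ℤ)) ^ e - 1).natAbs.factorization 5 +
      (n / e).factorial.factorization 5 := by
  have : Fact (Nat.Prime 5) := ⟨Nat.prime_five⟩
  have h := vp_prod (p := 5) (by norm_num) he (pow_ne hq) n
  unfold vp at h
  rwa [pr_eq (by omega)] at h

theorem v_plus {q : ℕ} (hq : 2 ≤ q) (h5 : 5 ∣ q + 1) (n : ℕ) :
    (pr n q).factorization 5 = n * (q + 1).factorization 5 + n.factorial.factorization 5 := by
  have he : orderOf (((-(q : ℤ) : ℤ)) : ZMod 5) = 1 := by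
    rw [orderOf_eq_one_iff]
    have : ((q + 1 : ℕ) : ZMod 5) = 0 := (ZMod.natCast_eq_zero_iff _ _).2 h5
    push_cast at this ⊢
    linear_combination -this
  rw [v_gen hq he, Nat.div_one, pow_one]
  congr 3
  have : (-(q : ℤ) - 1) = -((q + 1 : ℕ) : ℤ) := by push_cast; ring
  rw [this, Int.natAbs_neg, Int.natAbs_natCast]

theorem zmod5 : (-1 : ZMod 5) ^ 2 = 1 ∧ (-1 : ZMod 5) ≠ 1 := by decide

theorem v_minus {q : ℕ} (hq : 2 ≤ q) (h5 : 5 ∣ q - 1) (n : ℕ) :
    (pr n q).factorization 5 = (n / 2) * (q - 1).factorization 5 + (n / 2).factorial.factorization 5 := by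
  have hq5 : (q : ZMod 5) = 1 := by
    have : ((q - 1 : ℕ) : ZMod 5) = 0 := (ZMod.natCast_eq_zero_iff _ _).2 h5
    rw [Nat.cast_sub (by omega)] at this
    push_cast at this
    linear_combination this
  have he : orderOf (((-(q : ℤ) : ℤ)) : ZMod 5) = 2 := by
    rw [orderOf_eq_prime_iff]
    push_cast
    rw [hq5]
    exact zmod5
  rw [v_gen hq he]
  congr 2
  have h4 : ((-(q : ℤ)) ^ 2 - 1) = (((q - 1) * (q + 1) : ℕ) : ℤ) := by
    rw [Nat.cast_mul, Nat.cast_sub (by omega)]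
    push_cast
    ring
  rw [h4, Int.natAbs_natCast, Nat.factorization_mul (by omega) (by omega), Finsupp.add_apply]
  have h6 : ¬ 5 ∣ q + 1 := by omega
  rw [Nat.factorization_eq_zero_of_not_dvd h6, add_zero]

theorem order_four {x : ZMod 5} (h : x ^ 2 = -1) : orderOf x = 4 := by
  have h1 : orderOf x ∣ 2 ^ 2 := by
    rw [orderOf_dvd_iff_pow_eq_one]
    have : x ^ 2 ^ 2 = (x ^ 2) ^ 2 := by ring
    rw [this, h]
    decide
  have h2 : ¬ orderOf x ∣ 2 ^ 1 := by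
    rw [orderOf_dvd_iff_pow_eq_one, pow_one, h]
    decide
  have : Fact (Nat.Prime 2) := ⟨Nat.prime_two⟩
  obtain ⟨k, hk, hk2⟩ := (Nat.dvd_prime_pow Nat.prime_two).1 h1
  rw [hk2] at h2 ⊢
  have h3 : ¬ k ≤ 1 := fun h => h2 (pow_dvd_pow 2 h)
  have : k = 2 := by omega
  rw [this]
  norm_num

theorem v_four {q : ℕ} (hq : 2 ≤ q) (h5 : 5 ∣ q ^ 2 + 1) (n : ℕ) :
    (pr n q).factorization 5 = (n / 4) * (q ^ 2 + 1).factorization 5 + (n / 4).factorial.factorization 5 := by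
  have hq5 : (q : ZMod 5) ^ 2 = -1 := by
    have : ((q ^ 2 + 1 : ℕ) : ZMod 5) = 0 := (ZMod.natCast_eq_zero_iff _ _).2 h5
    push_cast at this
    linear_combination this
  have he : orderOf (((-(q : ℤ) : ℤ)) : ZMod 5) = 4 := by
    apply order_four
    push_cast
    rw [neg_sq, hq5]
  rw [v_gen hq he]
  congr 2
  have h1 : 1 ≤ q ^ 2 := Nat.one_le_pow _ _ (by omega)
  have h1' : 4 ≤ q ^ 2 := by nlinarith
  have h4 : ((-(q : ℤ)) ^ 4 - 1) = (((q ^ 2 - 1) * (q ^ 2 + 1) : ℕ) : ℤ) := by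
    rw [Nat.cast_mul, Nat.cast_sub h1]
    push_cast
    ring
  rw [h4, Int.natAbs_natCast, Nat.factorization_mul (by omega) (by omega), Finsupp.add_apply]
  have h6 : ¬ 5 ∣ q ^ 2 - 1 := by omega
  rw [Nat.factorization_eq_zero_of_not_dvd h6, zero_add]

theorem fac_eq {k j : ℕ} (h1 : 5 ^ j ∣ k) (h2 : ¬ 5 ^ (j + 1) ∣ k) : k.factorization 5 = j := by
  have hk : k ≠ 0 := by rintro rfl; exact h2 (dvd_zero _)
  have h3 := (Nat.prime_five.pow_dvd_iff_le_factorization hk).1 h1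
  have h4 := mt (Nat.prime_five.pow_dvd_iff_le_factorization hk).2 h2
  omega

theorem fac_dvd {k a : ℕ} (hk : k ≠ 0) (h : a ≤ k.factorization 5) : 5 ^ a ∣ k :=
  (Nat.prime_five.pow_dvd_iff_le_factorization hk).2 h

theorem fac_mono {m k : ℕ} (h : m ≤ k) : m.factorial.factorization 5 ≤ k.factorial.factorization 5 :=
  (Nat.factorization_le_iff_dvd (Nat.factorial_ne_zero _) (Nat.factorial_ne_zero _)).2 (Nat.factorial_dvd_factorial h) 5

variable {F : Type*} [Field F] [Fintype F] {q : ℕ}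

/-- **the order equation** -/
theorem order_eq (hF : Fintype.card F = q ^ 2) {n N : ℕ} (hn : 3 ≤ n) (hV : Vn5 N (PSU n F q)) :
    (Nat.gcd n (q + 1)).factorization 5 + ((q + 1).factorization 5 + N) =
      n * (n - 1) / 2 * q.factorization 5 + (pr n q).factorization 5 := by
  have h := Cfsg.Agent.S0280.result hF n (by omega)
  have hN := fac_eq hV.1 hV.2
  have hN0 : Nat.card (PSU n F q) ≠ 0 := by
    intro h0
    apply hV.2
    rw [h0]
    exact dvd_zero _
  have hg0 : Nat.gcd n (q + 1) ≠ 0 := Nat.gcd_ne_zero_right (by omega)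
  have hq0 : 2 ≤ q := two_le hF
  have hp0 : pr n q ≠ 0 := pr_ne hq0 n
  have h2 := congrArg (fun k : ℕ => k.factorization 5) h
  change (Nat.gcd n (q + 1) * ((q + 1) * Nat.card (PSU n F q))).factorization 5 =
    (q ^ (n * (n - 1) / 2) * pr n q).factorization 5 at h2
  rw [Nat.factorization_mul hg0 (mul_ne_zero (by omega) hN0), Nat.factorization_mul (by omega) hN0,
    Nat.factorization_mul (pow_ne_zero _ (by omega)) hp0, Nat.factorization_pow] at h2
  simp only [Finsupp.add_apply, Finsupp.smul_apply, smul_eq_mul] at h2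
  rw [hN] at h2
  exact h2

/-- coprime characteristic, `5 ∣ q + 1` -/
theorem case_plus (hF : Fintype.card F = q ^ 2) {n N : ℕ} (hn : 3 ≤ n) (hN : N = 8 ∨ N = 9) (hq : ¬ 5 ∣ q)
    (h5 : 5 ∣ q + 1) (hV : Vn5 N (PSU n F q)) : Big5 (PSU n F q) := by
  have hq2 : 2 ≤ q := two_le hF
  have heq := order_eq hF hn hV
  rw [v_plus hq2 h5, Nat.factorization_eq_zero_of_not_dvd hq, mul_zero, zero_add,
    Nat.factorization_gcd (by omega) (by omega), Finsupp.inf_apply] at heq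
  set a := (q + 1).factorization 5 with ha
  have ha1 : 1 ≤ a := Nat.prime_five.factorization_pos_of_dvd (by omega) h5
  have hdvd : 5 ^ a ∣ q + 1 := fac_dvd (by omega) le_rfl
  have h1 : n.factorization 5 ≤ n.factorial.factorization 5 :=
    (Nat.factorization_le_iff_dvd (by omega) (Nat.factorial_ne_zero n)).2 (Nat.dvd_factorial (by omega) le_rfl) 5
  have hna : n * a = (n - 1) * a + a := by
    obtain ⟨m, rfl⟩ : ∃ m, n = m + 1 := ⟨n - 1, by omega⟩
    rw [Nat.add_sub_cancel, Nat.succ_mul]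
  have h2 : n ≤ 10 := by
    by_contra hlt
    have h3 : 10 * 1 ≤ (n - 1) * a := Nat.mul_le_mul (by omega) ha1
    have := min_le_left (n.factorization 5) a
    omega
  have h3 := fac_mono h2
  have h4 : (Nat.factorial 10).factorization 5 = 2 := fac_eq (by decide) (by decide)
  obtain ⟨A, hA, hab, hc⟩ := abP_diag hF hn Nat.prime_five hdvd
  refine ⟨A, hA, hab, ?_⟩
  have h6 : Nat.gcd n (5 ^ a) = 5 ^ min (n.factorization 5) a := by
    apply Nat.dvd_antisymm
    · have h7 : Nat.gcd n (5 ^ a) ∣ 5 ^ a := Nat.gcd_dvd_right _ _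
      obtain ⟨k, hk, hk2⟩ := (Nat.dvd_prime_pow Nat.prime_five).1 h7
      rw [hk2]
      refine pow_dvd_pow 5 (le_min ?_ hk)
      have h8 : 5 ^ k ∣ n := hk2 ▸ Nat.gcd_dvd_left _ _
      exact (Nat.prime_five.pow_dvd_iff_le_factorization (by omega)).1 h8
    · refine Nat.dvd_gcd ?_ (pow_dvd_pow 5 (min_le_right _ _))
      exact fac_dvd (by omega) (min_le_left _ _)
  rw [h6] at hc
  have h7 : 5 ^ (5 + min (n.factorization 5) a) ≤ 5 ^ (a * (n - 1)) := by
    apply Nat.pow_le_pow_right (by norm_num)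
    rw [mul_comm a]
    omega
  rw [pow_add] at h7
  exact Nat.le_of_mul_le_mul_right (h7.trans hc) (Nat.pow_pos (by norm_num))

theorem small_fac {m a N : ℕ} (hN : N = 8 ∨ N = 9) (ha : 1 ≤ a) (h : N = m * a + m.factorial.factorization 5) :
    5 ≤ m * a := by
  have h4 : m ≤ 9 := by
    have : m * 1 ≤ m * a := Nat.mul_le_mul_left _ ha
    omega
  have h5 := fac_mono h4
  have h6 : (Nat.factorial 9).factorization 5 = 1 := fac_eq (by decide) (by decide)
  omega

/-- coprime characteristic, `5 ∣ q - 1` -/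
theorem case_minus (hF : Fintype.card F = q ^ 2) {n N : ℕ} (hn : 3 ≤ n) (hN : N = 8 ∨ N = 9) (hq : ¬ 5 ∣ q)
    (h5 : 5 ∣ q - 1) (hV : Vn5 N (PSU n F q)) : Big5 (PSU n F q) := by
  have : Fact (Nat.Prime 5) := ⟨Nat.prime_five⟩
  have hq2 : 2 ≤ q := two_le hF
  have hp : ¬ 5 ∣ q + 1 := by omega
  have hg : ¬ 5 ∣ Nat.gcd n (q + 1) := fun h => hp (h.trans (Nat.gcd_dvd_right _ _))
  have heq := order_eq hF hn hV
  rw [v_minus hq2 h5, Nat.factorization_eq_zero_of_not_dvd hq, mul_zero, zero_add,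
    Nat.factorization_eq_zero_of_not_dvd hp, Nat.factorization_eq_zero_of_not_dvd hg, zero_add, zero_add] at heq
  set a := (q - 1).factorization 5 with ha
  have ha1 : 1 ≤ a := Nat.prime_five.factorization_pos_of_dvd (by omega) h5
  have hdvd : 5 ^ a ∣ q - 1 := fac_dvd (by omega) le_rfl
  obtain ⟨x, hx⟩ := elt_minus hF hdvd
  exact AbP.big (abP_psu Nat.prime_five hF hn (abP_fill (AbP.of_orderOf hx) n) hg) (small_fac hN ha1 heq)

/-- coprime characteristic, `5 ∣ q ^ 2 + 1` -/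
theorem case_four (hF : Fintype.card F = q ^ 2) {n N : ℕ} (hn : 3 ≤ n) (hN : N = 8 ∨ N = 9) (hq : ¬ 5 ∣ q)
    (h5 : 5 ∣ q ^ 2 + 1) (hp : ¬ 5 ∣ q + 1) (hV : Vn5 N (PSU n F q)) : Big5 (PSU n F q) := by
  have : Fact (Nat.Prime 5) := ⟨Nat.prime_five⟩
  have hq2 : 2 ≤ q := two_le hF
  have hg : ¬ 5 ∣ Nat.gcd n (q + 1) := fun h => hp (h.trans (Nat.gcd_dvd_right _ _))
  have heq := order_eq hF hn hV
  rw [v_four hq2 h5, Nat.factorization_eq_zero_of_not_dvd hq, mul_zero, zero_add,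
    Nat.factorization_eq_zero_of_not_dvd hp, Nat.factorization_eq_zero_of_not_dvd hg, zero_add, zero_add] at heq
  set a := (q ^ 2 + 1).factorization 5 with ha
  have ha1 : 1 ≤ a := Nat.prime_five.factorization_pos_of_dvd (by omega) h5
  have hdvd : 5 ^ a ∣ q ^ 2 + 1 := fac_dvd (by omega) le_rfl
  obtain ⟨x, hx⟩ := elt_four hF hdvd
  exact AbP.big (abP_psu Nat.prime_five hF hn (abP_fill (AbP.of_orderOf hx) n) hg) (small_fac hN ha1 heq)

theorem pr_not_dvd {q : ℕ} (hq2 : 2 ≤ q) (hq : 5 ∣ q) (n : ℕ) : ¬ 5 ∣ pr n q := by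
  unfold pr
  rw [Nat.prime_five.prime.dvd_finsetProd_iff]
  rintro ⟨i, -, hi⟩
  have h1 : 5 ∣ q ^ (i + 1) := hq.trans (dvd_pow_self q (by omega))
  have h2 : 1 < q ^ (i + 1) := Nat.one_lt_pow (by omega) (by omega)
  split_ifs at hi <;> omega

/-- characteristic 5 -/
theorem case_five (hF : Fintype.card F = q ^ 2) {n N : ℕ} (hn : 3 ≤ n) (hN : N = 8 ∨ N = 9) (hq : 5 ∣ q)
    (hV : Vn5 N (PSU n F q)) : Big5 (PSU n F q) := by
  have : Fact (Nat.Prime 5) := ⟨Nat.prime_five⟩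
  have hq2 : 2 ≤ q := two_le hF
  have hp : ¬ 5 ∣ q + 1 := by omega
  have hg : ¬ 5 ∣ Nat.gcd n (q + 1) := fun h => hp (h.trans (Nat.gcd_dvd_right _ _))
  have heq := order_eq hF hn hV
  rw [Nat.factorization_eq_zero_of_not_dvd (pr_not_dvd hq2 hq n), Nat.factorization_eq_zero_of_not_dvd hp,
    Nat.factorization_eq_zero_of_not_dvd hg, zero_add, zero_add, add_zero] at heq
  obtain ⟨ℓ, k, hℓp, hℓ, hk, hk0⟩ := exists_prime_pow hF
  have hℓ5 : ℓ = 5 := by
    rw [hk] at hq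
    exact ((Nat.prime_dvd_prime_iff_eq Nat.prime_five hℓp).1 (Nat.prime_five.dvd_of_dvd_pow hq)).symm
  subst hℓ5
  have hqk : q.factorization 5 = k := by
    rw [hk, Nat.factorization_pow_self Nat.prime_five]
  rw [hqk] at heq
  have hn4 : n ≤ 4 := by
    by_contra h
    have h1 : 5 * 4 / 2 ≤ n * (n - 1) / 2 :=
      Nat.div_le_div_right (Nat.mul_le_mul (by omega) (by omega))
    have h2 : 10 * 1 ≤ n * (n - 1) / 2 * k := Nat.mul_le_mul h1 hk0
    omega
  have hn3 : n = 3 ∨ n = 4 := by omega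
  rcases hn3 with rfl | rfl
  · have hk3 : k = 3 := by omega
    obtain ⟨A, hA, hab, hc⟩ := uni_three hF (p := 5) (by norm_num)
    have h1 : AbP 5 6 (SU 3 F q) := ⟨A, hA, hab, by
      refine le_trans (le_of_eq ?_) hc
      rw [hk, hk3]
      norm_num⟩
    exact AbP.big (abP_psu Nat.prime_five hF hn h1 hg) (by norm_num)
  · omega

/-- **The row of `PSU_n(q)`** -/
theorem row_psu {n q : ℕ} (hn : 3 ≤ n) {F : Type} [Field F] [Fintype F] (hF : Fintype.card F = q ^ 2) :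
    Cfsg.Agent.H777.Elim5.Row5 (Cfsg.PSU n F q) := by
  intro hV
  obtain ⟨N, hN, hV⟩ : ∃ N, (N = 8 ∨ N = 9) ∧ Vn5 N (PSU n F q) := by
    rcases hV with h | h
    · exact ⟨8, Or.inl rfl, h⟩
    · exact ⟨9, Or.inr rfl, h⟩
  have hq2 : 2 ≤ q := two_le hF
  by_cases hq : 5 ∣ q
  · exact case_five hF hn hN hq hV
  by_cases h1 : 5 ∣ q + 1
  · exact case_plus hF hn hN hq h1 hV
  by_cases h2 : 5 ∣ q - 1
  · exact case_minus hF hn hN hq h2 hV
  · refine case_four hF hn hN hq ?_ h1 hV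
    have h3 : q % 5 = 2 ∨ q % 5 = 3 := by omega
    have h4 : (q ^ 2 + 1) % 5 = 0 := by
      rcases h3 with h | h <;> rw [Nat.add_mod, Nat.pow_mod, h]
    omega

end Cfsg.Agent.H383.M5.RowPSU
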