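import Cfsg.Agent.H494.PSURow
import Cfsg.Agent.ClassicalGeometry.SplitTorus

/-!
# Abelian `p`-subgroups of unitary groups

`AbP p N K`: there is an abelian `p`-subgroup of order at least `p ^ N` in `K`. Tori of `SU_n(q)` and their images in
`PSU_n(q)`: the diagonal torus (`abP_diag`), elements of order dividing `q + 1`, `q - 1` of `SU_2(q)`
(`elt_plus`, `elt_minus`), elements of order dividing `q ^ 2 + 1` of `SU_4(q)` (`elt_four`), block sums (`abP_blocks`),
and an abelian subgroup of order `q ^ 2` of `SU_3(q)` in odd characteristic (`uni_three`).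
-/

set_option autoImplicit false

namespace Cfsg.Agent.H383.M5.UniTori

open Subgroup Cfsg Matrix Cfsg.Agent.H494.PSURow
open Cfsg.Agent.LieClassical.SUBasic Cfsg.Agent.LieClassical.HermBasic

/-- abelian `p`-subgroups of order at least `p ^ N` -/
def AbP (p N : ℕ) (K : Type*) [Group K] : Prop :=
  ∃ A : Subgroup K, IsPGroup p A ∧ (∀ x ∈ A, ∀ y ∈ A, x * y = y * x) ∧ p ^ N ≤ Nat.card A

variable {p : ℕ}

theorem AbP.mono {N M : ℕ} {K : Type*} [Group K] (hp : 0 < p) (h : AbP p N K) (hM : M ≤ N) : AbP p M K := by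
  obtain ⟨A, h1, h2, h3⟩ := h
  exact ⟨A, h1, h2, (Nat.pow_le_pow_right hp hM).trans h3⟩

theorem AbP.zero {K : Type*} [Group K] : AbP p 0 K := by
  refine ⟨⊥, IsPGroup.of_bot, ?_, ?_⟩
  · intro x hx y hy
    rw [mem_bot.1 hx, mem_bot.1 hy]
  · rw [pow_zero, card_bot]

/-- transport along a homomorphism injective on `p`-elements -/
theorem AbP.of_hom {N : ℕ} {K L : Type*} [Group K] [Group L] (h : AbP p N L) (f : L →* K)
    (hf : ∀ x, (∃ k, x ^ p ^ k = 1) → f x = 1 → x = 1) : AbP p N K := by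
  obtain ⟨A, hA, hab, hc⟩ := h
  refine ⟨A.map f, hA.map _, ?_, ?_⟩
  · rintro _ ⟨x, hx, rfl⟩ _ ⟨y, hy, rfl⟩
    rw [← map_mul, ← map_mul, hab x hx y hy]
  · have hinj : Function.Injective (f.comp A.subtype) := by
      rw [injective_iff_map_eq_one]
      intro x hx
      obtain ⟨k, hk⟩ := hA x
      exact Subtype.ext (hf x ⟨k, by rw [← Subgroup.coe_pow, hk]; rfl⟩ hx)
    have h2 : Nat.card A = Nat.card (f.comp A.subtype).range :=
      Nat.card_congr (MonoidHom.ofInjective hinj).toEquiv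
    have h3 : (f.comp A.subtype).range = A.map f := by
      rw [MonoidHom.range_comp, Subgroup.range_subtype]
    rw [h2, h3] at hc
    exact hc

theorem AbP.of_injective {N : ℕ} {K L : Type*} [Group K] [Group L] (h : AbP p N L) (f : L →* K)
    (hf : Function.Injective f) : AbP p N K :=
  h.of_hom f fun x _ hx => (injective_iff_map_eq_one f).1 hf x hx

theorem AbP.prod {N M : ℕ} {K L : Type*} [Group K] [Group L] (h : AbP p N K) (h' : AbP p M L) :
    AbP p (N + M) (K × L) := by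
  obtain ⟨A, hA, hab, hc⟩ := h
  obtain ⟨B, hB, hab', hc'⟩ := h'
  refine ⟨A.prod B, ?_, ?_, ?_⟩
  · intro x
    obtain ⟨k, hk⟩ := hA ⟨x.1.1, x.2.1⟩
    obtain ⟨l, hl⟩ := hB ⟨x.1.2, x.2.2⟩
    refine ⟨k + l, Subtype.ext (Prod.ext ?_ ?_)⟩
    · have h1 : (x.1.1) ^ p ^ k = 1 := congrArg Subtype.val hk
      change (x.1.1) ^ p ^ (k + l) = 1
      rw [pow_add, pow_mul, h1, one_pow]
    · have h1 : (x.1.2) ^ p ^ l = 1 := congrArg Subtype.val hl
      change (x.1.2) ^ p ^ (k + l) = 1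
      rw [add_comm, pow_add, pow_mul, h1, one_pow]
  · intro x hx y hy
    exact Prod.ext (hab _ hx.1 _ hy.1) (hab' _ hx.2 _ hy.2)
  · rw [Nat.card_congr (A.prodEquiv B).toEquiv, Nat.card_prod, pow_add]
    exact Nat.mul_le_mul hc hc'

theorem AbP.of_orderOf {N : ℕ} {K : Type*} [Group K] {x : K} [Fact p.Prime] (h : orderOf x = p ^ N) : AbP p N K := by
  refine ⟨zpowers x, ?_, ?_, ?_⟩
  · exact IsPGroup.of_card (n := N) (by rw [Nat.card_zpowers, h])
  · rintro _ ⟨i, rfl⟩ _ ⟨j, rfl⟩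
    exact (Commute.refl x).zpow_zpow i j
  · rw [Nat.card_zpowers, h]

/-- units of given order -/
theorem exists_unit {F : Type*} [Field F] [Fintype F] {r : ℕ} (hr : r ∣ Fintype.card F - 1) :
    ∃ t : Fˣ, orderOf t = r := by
  classical
  have h1 : r ∣ Nat.card Fˣ := by
    rw [Nat.card_eq_fintype_card, Fintype.card_units]
    exact hr
  obtain ⟨t, ht⟩ := (IsCyclic.exists_ofOrder_eq_natCard (α := Fˣ))
  have hcard : 0 < Nat.card Fˣ := Nat.card_pos
  obtain ⟨d, hd⟩ := h1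
  have hr0 : r ≠ 0 := by rintro rfl; rw [zero_mul] at hd; omega
  have hd0 : d ≠ 0 := by rintro rfl; rw [mul_zero] at hd; omega
  refine ⟨t ^ d, ?_⟩
  rw [orderOf_pow_of_dvd hd0 (by rw [ht, hd]; exact Dvd.intro_left r rfl), ht, hd,
      Nat.mul_div_cancel _ (Nat.pos_of_ne_zero hd0)]

theorem dgHom_injective (F : Type*) [Field F] :
    Function.Injective (Cfsg.Agent.ClassicalGeometry.SplitTorus.dgHom F) := by
  intro s t h
  apply Units.ext
  exact congrArg (fun A : SpecialLinearGroup (Fin 2) F => A 0 0) h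

variable {F : Type*} [Field F] [Fintype F] {q : ℕ}

/-- elements of `SU_2(q)` of order dividing `q + 1` -/
theorem elt_plus (hF : Fintype.card F = q ^ 2) {r : ℕ} (hr : r ∣ q + 1) : ∃ x : SU 2 F q, orderOf x = r := by
  have h1 : r ∣ Fintype.card F - 1 := by
    rw [hF]
    have : q ^ 2 - 1 = (q + 1) * (q - 1) := by
      have := Nat.sq_sub_sq q 1
      simpa using this
    rw [this]
    exact hr.mul_right _
  obtain ⟨s, hord⟩ := exists_unit h1
  have hs : s * s ^ q = 1 := by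
    rw [← pow_succ', ← orderOf_dvd_iff_pow_eq_one, hord]
    exact hr
  have hmem : Cfsg.Agent.ClassicalGeometry.SplitTorus.dgHom F s ∈ SU 2 F q := by
    rw [Cfsg.Agent.S0281.mem_SU_two_iff hF]
    constructor
    · change (s : F) ^ q = ((s⁻¹ : Fˣ) : F)
      rw [← Units.val_pow_eq_pow_val, eq_inv_of_mul_eq_one_right hs]
    · change (0 : F) ^ q = -0
      rw [zero_pow_q hF, neg_zero]
  refine ⟨⟨_, hmem⟩, ?_⟩
  rw [← Subgroup.orderOf_coe, ← hord]
  exact orderOf_injective _ (dgHom_injective F) s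

/-- elements of `SU_2(q)` of order dividing `q - 1` -/
theorem elt_minus (hF : Fintype.card F = q ^ 2) {r : ℕ} (hr : r ∣ q - 1) : ∃ x : SU 2 F q, orderOf x = r := by
  obtain ⟨K, _, _, hK⟩ := Cfsg.Agent.S0280.exists_field hF
  obtain ⟨e⟩ := Cfsg.Agent.S0281.result hF hK
  obtain ⟨s, hord⟩ := exists_unit (F := K) (hK.symm ▸ hr)
  refine ⟨e.symm (Cfsg.Agent.ClassicalGeometry.SplitTorus.dgHom K s), ?_⟩
  rw [MulEquiv.orderOf_eq, ← hord]
  exact orderOf_injective _ (dgHom_injective K) s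

/-- a field with `|F| ^ 2` elements -/
theorem exists_ext (F : Type*) [Field F] [Fintype F] :
    ∃ (E : Type) (_ : Field E) (_ : Fintype E), Fintype.card E = Fintype.card F ^ 2 := by
  obtain ⟨ℓ, _⟩ := CharP.exists F
  obtain ⟨k, hp, hk⟩ := FiniteField.card F ℓ
  have := Fact.mk hp
  have h1 : Nat.card (GaloisField ℓ (k * 2)) = Fintype.card F ^ 2 := by
    rw [GaloisField.card ℓ _ (by have := k.pos; omega), hk, pow_mul]
  have : Finite (GaloisField ℓ (k * 2)) := inferInstance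
  let _ : Fintype (GaloisField ℓ (k * 2)) := Fintype.ofFinite _
  exact ⟨GaloisField ℓ (k * 2), inferInstance, inferInstance, by rw [← Nat.card_eq_fintype_card, h1]⟩

/-- elements of `SL_2(F)` of order dividing `|F| + 1` -/
theorem elt_SL (F : Type*) [Field F] [Fintype F] {r : ℕ} (hr : r ∣ Fintype.card F + 1) :
    ∃ x : SpecialLinearGroup (Fin 2) F, orderOf x = r := by
  obtain ⟨E, _, _, hE⟩ := exists_ext F
  obtain ⟨x, hx⟩ := elt_plus hE hr
  obtain ⟨e⟩ := Cfsg.Agent.S0281.result hE rfl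
  exact ⟨e x, by rw [MulEquiv.orderOf_eq, hx]⟩

/-! ### membership in `SU` -/

theorem mem_SU_of_mul {n : ℕ} (hF : Fintype.card F = q ^ 2) {A : SpecialLinearGroup (Fin n) F}
    (h : A.1ᵀ * A.1.map (fun x => x ^ q) = 1) : A ∈ SU n F q := by
  refine (Cfsg.Agent.LieClassical.HermBasic.mem_SU_iff A).2 fun u v => ?_
  have h1 : ∀ a b : Fin n → F, hermForm n F q a b = a ⬝ᵥ (fun i => b i ^ q) := fun a b => rfl
  have h2 : (fun i => (A.1 *ᵥ v) i ^ q) = A.1.map (fun x => x ^ q) *ᵥ (fun i => v i ^ q) := by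
    funext i
    change (∑ j, A.1 i j * v j) ^ q = ∑ j, A.1 i j ^ q * v j ^ q
    rw [sum_pow_q hF]
    exact Finset.sum_congr rfl fun j _ => mul_pow _ _ _
  rw [h1, h1, h2, ← vecMul_transpose, dotProduct_mulVec, vecMul_vecMul, h, vecMul_one]

/-! ### `SL_2(F)` in `SU_4(q)` -/

section Four

variable (c d : F)

/-- the change of basis -/
def PP : Matrix (Fin 2 ⊕ Fin 2) (Fin 2 ⊕ Fin 2) F := fromBlocks 1 1 (c • 1) (d • 1)

/-- its inverse -/
def QQ : Matrix (Fin 2 ⊕ Fin 2) (Fin 2 ⊕ Fin 2) F :=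
  (d - c)⁻¹ • fromBlocks (d • 1) (-1) (-(c • 1)) 1

variable {c d}

omit [Fintype F] in
theorem PP_mul_QQ (h : c ≠ d) : PP c d * QQ c d = 1 := by
  have h0 : d - c ≠ 0 := sub_ne_zero.2 (Ne.symm h)
  unfold PP QQ
  rw [Matrix.mul_smul, fromBlocks_multiply, ← fromBlocks_one, fromBlocks_smul]
  have e1 : (1 : Matrix (Fin 2) (Fin 2) F) * d • 1 + 1 * -(c • 1) = (d - c) • 1 := by
    rw [one_mul, one_mul, sub_smul, sub_eq_add_neg]
  have e2 : (1 : Matrix (Fin 2) (Fin 2) F) * -1 + 1 * 1 = 0 := by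
    rw [one_mul, one_mul, neg_add_cancel]
  have e3 : c • (1 : Matrix (Fin 2) (Fin 2) F) * d • 1 + d • 1 * -(c • 1) = 0 := by
    rw [Matrix.mul_neg, smul_mul_smul_comm, smul_mul_smul_comm, mul_comm d c, add_neg_cancel]
  have e4 : c • (1 : Matrix (Fin 2) (Fin 2) F) * -1 + d • 1 * 1 = (d - c) • 1 := by
    rw [Matrix.mul_neg, mul_one, mul_one, sub_smul, neg_add_eq_sub]
  rw [e1, e2, e3, e4, smul_smul, inv_mul_cancel₀ h0, one_smul, smul_zero]

omit [Fintype F] in
theorem QQ_mul_PP (h : c ≠ d) : QQ c d * PP c d = 1 := mul_eq_one_comm.1 (PP_mul_QQ h)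

/-- inverse transpose of the conjugate -/
def hh (hF : Fintype.card F = q ^ 2) : SpecialLinearGroup (Fin 2) F →* Matrix (Fin 2) (Fin 2) F where
  toFun g := !![g.1 1 1 ^ q, -g.1 1 0 ^ q; -g.1 0 1 ^ q, g.1 0 0 ^ q]
  map_one' := by
    ext i j
    fin_cases i <;> fin_cases j <;> simp [zero_pow_q hF]
  map_mul' g k := by
    ext i j
    fin_cases i <;> fin_cases j <;>
      simp [Matrix.mul_apply, Fin.sum_univ_two, add_pow_q hF, mul_pow] <;> ring

theorem hh_apply (hF : Fintype.card F = q ^ 2) (g : SpecialLinearGroup (Fin 2) F) :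
    hh hF g = !![g.1 1 1 ^ q, -g.1 1 0 ^ q; -g.1 0 1 ^ q, g.1 0 0 ^ q] := rfl

theorem det_hh (hF : Fintype.card F = q ^ 2) (g : SpecialLinearGroup (Fin 2) F) : (hh hF g).det = 1 := by
  have hdet : g.1 0 0 * g.1 1 1 - g.1 0 1 * g.1 1 0 = 1 := by
    have := g.2
    rwa [Matrix.det_fin_two] at this
  have h1 : (g.1 0 0 * g.1 1 1 - g.1 0 1 * g.1 1 0) ^ q = 1 := by rw [hdet, one_pow]
  rw [sub_pow_q hF, mul_pow, mul_pow] at h1
  rw [hh_apply, det_fin_two_of]
  linear_combination h1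

/-- the conjugate transpose of `hh g` is the inverse of `g` -/
theorem hh_conj (hF : Fintype.card F = q ^ 2) (g : SpecialLinearGroup (Fin 2) F) :
    g.1ᵀ * (hh hF g).map (fun x => x ^ q) = 1 := by
  have hdet : g.1 0 0 * g.1 1 1 - g.1 0 1 * g.1 1 0 = 1 := by
    have := g.2
    rwa [Matrix.det_fin_two] at this
  rw [hh_apply]
  ext i j
  fin_cases i <;> fin_cases j <;>
    simp [Matrix.mul_apply, Fin.sum_univ_two, neg_pow_q hF, pow_q_pow_q hF] <;>
      first | linear_combination hdet | ring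

theorem hh_conj' (hF : Fintype.card F = q ^ 2) (g : SpecialLinearGroup (Fin 2) F) :
    (hh hF g)ᵀ * g.1.map (fun x => x ^ q) = 1 := by
  have hdet : g.1 0 0 * g.1 1 1 - g.1 0 1 * g.1 1 0 = 1 := by
    have := g.2
    rwa [Matrix.det_fin_two] at this
  have h1 : (g.1 0 0 * g.1 1 1 - g.1 0 1 * g.1 1 0) ^ q = 1 := by rw [hdet, one_pow]
  rw [sub_pow_q hF, mul_pow, mul_pow] at h1
  rw [hh_apply]
  ext i j
  fin_cases i <;> fin_cases j <;>
    simp [Matrix.mul_apply, Fin.sum_univ_two] <;> first | linear_combination h1 | ring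

/-- the block diagonal matrix -/
def DD (hF : Fintype.card F = q ^ 2) :
    SpecialLinearGroup (Fin 2) F →* Matrix (Fin 2 ⊕ Fin 2) (Fin 2 ⊕ Fin 2) F where
  toFun g := fromBlocks g.1 0 0 (hh hF g)
  map_one' := by
    change fromBlocks (1 : Matrix (Fin 2) (Fin 2) F) 0 0 (hh hF 1) = 1
    rw [map_one, fromBlocks_one]
  map_mul' g k := by
    change fromBlocks (g.1 * k.1) 0 0 (hh hF (g * k)) = fromBlocks g.1 0 0 (hh hF g) * fromBlocks k.1 0 0 (hh hF k)
    rw [map_mul, fromBlocks_multiply]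
    simp

theorem DD_apply (hF : Fintype.card F = q ^ 2) (g : SpecialLinearGroup (Fin 2) F) :
    DD hF g = fromBlocks g.1 0 0 (hh hF g) := rfl

/-- the Gram matrix in the new basis -/
theorem gram (hF : Fintype.card F = q ^ 2) (hc : c * c ^ q = -1) (hd : d * d ^ q = -1) :
    (PP c d)ᵀ * (PP c d).map (fun x => x ^ q) =
      fromBlocks 0 ((1 + c * d ^ q) • 1) ((1 + d * c ^ q) • 1) 0 := by
  have h1 : ∀ a : F, (a • (1 : Matrix (Fin 2) (Fin 2) F)).map (fun x => x ^ q) = (a ^ q) • 1 := by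
    intro a
    ext i j
    rcases eq_or_ne i j with rfl | hij
    · simp
    · simp [hij, zero_pow_q hF]
  have h2 : (1 : Matrix (Fin 2) (Fin 2) F).map (fun x => x ^ q) = 1 := by
    have := h1 1
    rwa [one_smul, one_pow, one_smul] at this
  unfold PP
  rw [fromBlocks_transpose, fromBlocks_map, fromBlocks_multiply, h1, h1, h2]
  simp only [transpose_one, transpose_smul, mul_one, smul_mul_smul_comm, hc, hd]
  congr 1
  · rw [neg_smul, one_smul, add_neg_cancel]
  · rw [add_smul, one_smul]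
  · rw [add_smul, one_smul]
  · rw [neg_smul, one_smul, add_neg_cancel]

/-- the embedding -/
def EE (hF : Fintype.card F = q ^ 2) (h : c ≠ d) :
    SpecialLinearGroup (Fin 2) F →* Matrix (Fin 2 ⊕ Fin 2) (Fin 2 ⊕ Fin 2) F where
  toFun g := PP c d * DD hF g * QQ c d
  map_one' := by rw [map_one, mul_one, PP_mul_QQ h]
  map_mul' g k := by
    rw [map_mul]
    calc PP c d * (DD hF g * DD hF k) * QQ c d = PP c d * DD hF g * 1 * DD hF k * QQ c d := by
          rw [mul_one, ← mul_assoc]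
      _ = _ := by
          rw [← QQ_mul_PP h]
          simp only [mul_assoc]

theorem EE_apply (hF : Fintype.card F = q ^ 2) (h : c ≠ d) (g : SpecialLinearGroup (Fin 2) F) :
    EE hF h g = PP c d * DD hF g * QQ c d := rfl

theorem det_EE (hF : Fintype.card F = q ^ 2) (h : c ≠ d) (g : SpecialLinearGroup (Fin 2) F) :
    (EE hF h g).det = 1 := by
  have h1 : (DD hF g).det = 1 := by
    rw [DD_apply, det_fromBlocks_zero₂₁, det_hh hF g, g.2, mul_one]
  rw [EE_apply, det_mul, det_mul, h1, mul_one, ← det_mul, PP_mul_QQ h, det_one]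

theorem EE_injective (hF : Fintype.card F = q ^ 2) (h : c ≠ d) : Function.Injective (EE hF h) := by
  intro g k hgk
  rw [EE_apply, EE_apply] at hgk
  have h1 : DD hF g = DD hF k := by
    calc DD hF g = (QQ c d * PP c d) * DD hF g * (QQ c d * PP c d) := by
          rw [QQ_mul_PP h, one_mul, mul_one]
      _ = QQ c d * (PP c d * DD hF g * QQ c d) * PP c d := by simp only [mul_assoc]
      _ = QQ c d * (PP c d * DD hF k * QQ c d) * PP c d := by rw [hgk]
      _ = (QQ c d * PP c d) * DD hF k * (QQ c d * PP c d) := by simp only [mul_assoc]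
      _ = DD hF k := by rw [QQ_mul_PP h, one_mul, mul_one]
  rw [DD_apply, DD_apply] at h1
  exact Subtype.ext (fromBlocks_inj.1 h1).1

theorem EE_unitary (hF : Fintype.card F = q ^ 2) (h : c ≠ d) (hc : c * c ^ q = -1) (hd : d * d ^ q = -1)
    (g : SpecialLinearGroup (Fin 2) F) : (EE hF h g)ᵀ * (EE hF h g).map (fun x => x ^ q) = 1 := by
  have hm : ∀ A : Matrix (Fin 2 ⊕ Fin 2) (Fin 2 ⊕ Fin 2) F,
      A.map (fun x => x ^ q) = (conj hF : F →+* F).mapMatrix A := fun A => rfl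
  have hm2 : ∀ A : Matrix (Fin 2) (Fin 2) F,
      A.map (fun x => x ^ q) = (conj hF : F →+* F).mapMatrix A := fun A => rfl
  set σ := (conj hF : F →+* F).mapMatrix (m := Fin 2 ⊕ Fin 2) with hσ
  have hg := gram hF hc hd
  rw [hm] at hg
  have hD : (DD hF g)ᵀ * ((PP c d)ᵀ * σ (PP c d)) * σ (DD hF g) = (PP c d)ᵀ * σ (PP c d) := by
    rw [hg, DD_apply, hσ, ← hm, fromBlocks_map, fromBlocks_transpose, fromBlocks_multiply, fromBlocks_multiply]
    have h0 : (0 : Matrix (Fin 2) (Fin 2) F).map (fun x => x ^ q) = 0 := by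
      rw [hm2, map_zero]
    rw [h0]
    simp only [transpose_zero, mul_zero, zero_mul, add_zero, zero_add, Matrix.mul_smul, Matrix.smul_mul, mul_one]
    rw [hh_conj hF, hh_conj' hF]
  rw [hm, EE_apply, map_mul, map_mul, transpose_mul, transpose_mul]
  calc (QQ c d)ᵀ * ((DD hF g)ᵀ * (PP c d)ᵀ) * (σ (PP c d) * σ (DD hF g) * σ (QQ c d)) =
        (QQ c d)ᵀ * ((DD hF g)ᵀ * ((PP c d)ᵀ * σ (PP c d)) * σ (DD hF g)) * σ (QQ c d) := by
          simp only [mul_assoc]
    _ = (PP c d * QQ c d)ᵀ * σ (PP c d * QQ c d) := by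
          rw [hD, transpose_mul, map_mul]
          simp only [mul_assoc]
    _ = 1 := by rw [PP_mul_QQ h, transpose_one, map_one, one_mul]

end Four

/-- `SL_2(q ^ 2)` in `SU_4(q)` -/
theorem exists_SL_four (hF : Fintype.card F = q ^ 2) :
    ∃ f : SpecialLinearGroup (Fin 2) F →* SU 4 F q, Function.Injective f := by
  classical
  have h1 : (-1 : F) ^ q = -1 := by rw [neg_pow_q hF, one_pow]
  have h2 := card_norm_eq hF h1 (by simp)
  have hq := two_le hF
  have h3 : Nontrivial {x : F // x * x ^ q = -1} := by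
    rw [← Finite.one_lt_card_iff_nontrivial, h2]
    omega
  obtain ⟨⟨c, hc⟩, ⟨d, hd⟩, hcd⟩ := h3
  have hne : c ≠ d := fun h => hcd (Subtype.ext h)
  let e : Fin 2 ⊕ Fin 2 ≃ Fin 4 := finSumFinEquiv
  let f0 : SpecialLinearGroup (Fin 2) F →* SpecialLinearGroup (Fin 4) F :=
    { toFun := fun g => ⟨reindex e e (EE hF hne g), by rw [det_reindex_self, det_EE hF hne g]⟩
      map_one' := Subtype.ext (by
        change reindex e e (EE hF hne 1) = 1
        rw [map_one, reindex_apply, submatrix_one_equiv])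
      map_mul' := fun g k => Subtype.ext (by
        change reindex e e (EE hF hne (g * k)) = reindex e e (EE hF hne g) * reindex e e (EE hF hne k)
        rw [map_mul, reindex_apply, reindex_apply, reindex_apply, submatrix_mul_equiv]) }
  have hmem : ∀ g, f0 g ∈ SU 4 F q := by
    intro g
    refine mem_SU_of_mul hF ?_
    change (reindex e e (EE hF hne g))ᵀ * (reindex e e (EE hF hne g)).map (fun x => x ^ q) = 1
    have h4 : (reindex e e (EE hF hne g)).map (fun x => x ^ q) =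
      reindex e e ((EE hF hne g).map (fun x => x ^ q)) := rfl
    have h5 : (reindex e e (EE hF hne g))ᵀ = reindex e e ((EE hF hne g)ᵀ) := rfl
    rw [h4, h5, reindex_apply, reindex_apply, submatrix_mul_equiv, EE_unitary hF hne hc hd g, submatrix_one_equiv]
  refine ⟨f0.codRestrict _ hmem, ?_⟩
  intro g k hgk
  have h6 : reindex e e (EE hF hne g) = reindex e e (EE hF hne k) := congrArg (fun z : SU 4 F q => z.1.1) hgk
  exact EE_injective hF hne ((reindex (α := F) e e).injective h6)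

/-- elements of `SU_4(q)` of order dividing `q ^ 2 + 1` -/
theorem elt_four (hF : Fintype.card F = q ^ 2) {r : ℕ} (hr : r ∣ q ^ 2 + 1) : ∃ x : SU 4 F q, orderOf x = r := by
  obtain ⟨f, hf⟩ := exists_SL_four hF
  obtain ⟨x, hx⟩ := elt_SL F (hF.symm ▸ hr)
  exact ⟨f x, by rw [orderOf_injective f hf, hx]⟩

/-! ### Block sums -/

omit [Fintype F] in
/-- block sums -/
theorem abP_blocks {k a : ℕ} (h : AbP p a (SU k F q)) (m : ℕ) : AbP p (m * a) (SU (k * m) F q) := by
  induction m with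
  | zero => rw [zero_mul]; exact AbP.zero
  | succ m ih =>
    rw [Nat.succ_mul, Nat.mul_succ]
    exact (ih.prod h).of_injective (blk (k * m) k F q) (blk_injective _ _ _)

omit [Fintype F] in
theorem abP_left {a k : ℕ} (h : AbP p a (SU k F q)) (m : ℕ) : AbP p a (SU (k + m) F q) := by
  have := h.prod (AbP.zero (K := SU m F q))
  exact this.of_injective (blk k m F q) (blk_injective _ _ _)

omit [Fintype F] in
/-- as many blocks as there is space -/
theorem abP_fill {k a : ℕ} (h : AbP p a (SU k F q)) (n : ℕ) : AbP p (n / k * a) (SU n F q) := by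
  have h1 := abP_left (abP_blocks h (n / k)) (n % k)
  rwa [Nat.div_add_mod] at h1

/-- the matrix of an element -/
def mtx (n : ℕ) (F : Type*) [Field F] (q : ℕ) : SU n F q →* Matrix (Fin n) (Fin n) F :=
  (SpecialLinearGroup.coeMonoidHom).comp (SU n F q).subtype

omit [Fintype F] in
theorem mtx_injective (n q : ℕ) : Function.Injective (mtx n F q) :=
  (SpecialLinearGroup.coeMonoidHom_injective).comp Subtype.val_injective

/-- into `PSU_n(q)` when the centre has no `p`-elements -/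
theorem abP_psu (hp : p.Prime) (hF : Fintype.card F = q ^ 2) {n : ℕ} (hn : 3 ≤ n) {a : ℕ} (h : AbP p a (SU n F q))
    (hc : ¬ p ∣ Nat.gcd n (q + 1)) : AbP p a (PSU n F q) := by
  refine h.of_hom (QuotientGroup.mk' (center (SU n F q))) ?_
  rintro x ⟨k, hk⟩ hx
  obtain ⟨c, hcn, hcq, rfl⟩ :=
    (Cfsg.Agent.LieClassical.SUBasic.mem_center_SU_iff hF hn x).1 ((QuotientGroup.eq_one_iff _).1 hx)
  have hn0 : 0 < n := by omega
  have h1 : c ^ p ^ k = 1 := by
    have h4 := congrArg (mtx n F q) hk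
    rw [map_pow, map_one] at h4
    have h5 : mtx n F q (suScalar q c hcn hcq) = diagonal fun _ => c := coe_suScalar q c hcn hcq
    rw [h5, diagonal_pow] at h4
    have h6 := congrFun (congrFun h4 ⟨0, hn0⟩) ⟨0, hn0⟩
    rw [diagonal_apply_eq, one_apply_eq] at h6
    exact h6
  have h2 : orderOf c ∣ 1 := by
    have h3 : Nat.Coprime (p ^ k) (Nat.gcd n (q + 1)) :=
      Nat.Coprime.pow_left k ((Nat.Prime.coprime_iff_not_dvd hp).2 hc)
    rw [← h3]
    exact Nat.dvd_gcd (orderOf_dvd_iff_pow_eq_one.2 h1)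
      (Nat.dvd_gcd (orderOf_dvd_iff_pow_eq_one.2 hcn) (orderOf_dvd_iff_pow_eq_one.2 hcq))
  have h3 : c = 1 := orderOf_eq_one_iff.1 (Nat.dvd_one.1 h2)
  subst h3
  apply mtx_injective n q
  rw [map_one]
  exact (coe_suScalar q 1 hcn hcq).trans diagonal_one

/-! ### The diagonal torus -/

section Diag

/-- the subgroup of elements of order dividing `r` -/
def mu (F : Type*) [Field F] (r : ℕ) : Subgroup Fˣ := (powMonoidHom r : Fˣ →* Fˣ).ker

omit [Fintype F] in
theorem mem_mu {r : ℕ} {x : Fˣ} : x ∈ mu F r ↔ x ^ r = 1 := Iff.rfl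

theorem card_mu {r : ℕ} (hr : r ∣ Fintype.card F - 1) : Nat.card (mu F r) = r := by
  classical
  rw [mu, IsCyclic.card_powMonoidHom_ker, Nat.card_eq_fintype_card, Fintype.card_units]
  exact Nat.gcd_eq_right hr

/-- the product of the entries -/
def prodHom (F : Type*) [Field F] (n r : ℕ) : (Fin n → mu F r) →* mu F r where
  toFun t := ∏ i, t i
  map_one' := by simp
  map_mul' s t := by
    change ∏ i, (s i * t i) = _
    rw [Finset.prod_mul_distrib]

/-- the diagonal torus -/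
def Tor (F : Type*) [Field F] (n r : ℕ) : Subgroup (Fin n → mu F r) := (prodHom F n r).ker

theorem card_Tor {r n : ℕ} (hr : r ∣ Fintype.card F - 1) (hr0 : 0 < r) : Nat.card (Tor F (n + 1) r) = r ^ n := by
  have h1 := Subgroup.card_mul_index (Tor F (n + 1) r)
  have hsurj : Function.Surjective (prodHom F (n + 1) r) := by
    intro c
    refine ⟨fun i => if i = 0 then c else 1, ?_⟩
    change ∏ i : Fin (n + 1), (if i = 0 then c else 1) = c
    rw [Finset.prod_ite_eq' Finset.univ (0 : Fin (n + 1)) (fun _ => c)]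
    simp
  have h2 : (Tor F (n + 1) r).index = r := by
    unfold Tor
    rw [Subgroup.index_ker, MonoidHom.range_eq_top.2 hsurj, Subgroup.card_top, card_mu hr]
  rw [h2, Nat.card_fun, card_mu hr, Nat.card_fin, pow_succ] at h1
  exact Nat.eq_of_mul_eq_mul_right hr0 h1

omit [Fintype F] in
theorem tor_aux {n r : ℕ} (hr : r ∣ q + 1) (t : Tor F n r) :
    (∏ i, (((t : Fin n → mu F r) i : Fˣ) : F) = 1) ∧ ∀ i, (((t : Fin n → mu F r) i : Fˣ) : F) ^ (q + 1) = 1 := by
  constructor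
  · have h1 : ∏ i, (t : Fin n → mu F r) i = 1 := t.2
    have h2 := congrArg (fun x : mu F r => ((x : Fˣ) : F)) h1
    simpa using h2
  · intro i
    have h1 : ((t : Fin n → mu F r) i : Fˣ) ^ r = 1 := ((t : Fin n → mu F r) i).2
    obtain ⟨m, hm⟩ := hr
    rw [← Units.val_pow_eq_pow_val, hm, pow_mul, h1, one_pow, Units.val_one]

/-- the torus in `SU` -/
def torHom (F : Type*) [Field F] (q n : ℕ) {r : ℕ} (hr : r ∣ q + 1) : Tor F n r →* SU n F q where
  toFun t := suDiag q (fun i => (((t : Fin n → mu F r) i : Fˣ) : F)) (tor_aux hr t).1 (tor_aux hr t).2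
  map_one' := by
    apply mtx_injective n q
    rw [map_one]
    change diagonal _ = 1
    rw [← diagonal_one]
    rfl
  map_mul' s t := by
    apply mtx_injective n q
    rw [map_mul]
    change diagonal _ = diagonal _ * diagonal _
    rw [diagonal_mul_diagonal]
    rfl

/-- **the diagonal torus of `PSU_n(q)`** -/
theorem abP_diag (hF : Fintype.card F = q ^ 2) {n : ℕ} (hn : 3 ≤ n) {a : ℕ} (hp : p.Prime) (ha : p ^ a ∣ q + 1) :
    ∃ A : Subgroup (PSU n F q), IsPGroup p A ∧ (∀ x ∈ A, ∀ y ∈ A, x * y = y * x) ∧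
      p ^ (a * (n - 1)) ≤ Nat.card A * Nat.gcd n (p ^ a) := by
  classical
  obtain ⟨m, rfl⟩ : ∃ m, n = m + 1 := ⟨n - 1, by omega⟩
  have hr1 : p ^ a ∣ Fintype.card F - 1 := by
    rw [hF]
    have : q ^ 2 - 1 = (q + 1) * (q - 1) := by
      have := Nat.sq_sub_sq q 1
      simpa using this
    rw [this]
    exact ha.mul_right _
  have hr0 : 0 < p ^ a := Nat.pow_pos hp.pos
  set f : Tor F (m + 1) (p ^ a) →* PSU (m + 1) F q :=
    (QuotientGroup.mk' (center (SU (m + 1) F q))).comp (torHom F q (m + 1) ha) with hf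
  have hpow : ∀ t : Tor F (m + 1) (p ^ a), t ^ p ^ a = 1 := by
    intro t
    apply Subtype.ext
    funext i
    apply Subtype.ext
    exact ((t : Fin (m + 1) → mu F (p ^ a)) i).2
  refine ⟨f.range, ?_, ?_, ?_⟩
  · rintro ⟨_, t, rfl⟩
    refine ⟨a, Subtype.ext ?_⟩
    change f t ^ p ^ a = 1
    rw [← map_pow, hpow, map_one]
  · rintro _ ⟨s, rfl⟩ _ ⟨t, rfl⟩
    rw [← map_mul, ← map_mul, mul_comm]
  · have h1 : Nat.card f.range * Nat.card f.ker = (p ^ a) ^ m := by
      rw [← card_Tor hr1 hr0, ← Subgroup.card_mul_index f.ker, Subgroup.index_ker, mul_comm]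
    rw [pow_mul, Nat.add_sub_cancel, ← h1]
    refine Nat.mul_le_mul_left _ ?_
    -- the kernel consists of scalars
    have hker : ∀ t : f.ker, ∃ c : F, (∀ i, ((((t : Tor F (m + 1) (p ^ a)) : Fin (m + 1) → mu F (p ^ a)) i : Fˣ) : F) = c) ∧
        c ^ (m + 1) = 1 := by
      intro t
      have h2 : torHom F q (m + 1) ha t ∈ center (SU (m + 1) F q) := (QuotientGroup.eq_one_iff _).1 t.2
      obtain ⟨c, hcn, hcq, h3⟩ := (Cfsg.Agent.LieClassical.SUBasic.mem_center_SU_iff hF hn _).1 h2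
      refine ⟨c, fun i => ?_, hcn⟩
      have h4 := congrArg (mtx (m + 1) F q) h3
      have h5 := congrFun (congrFun h4 i) i
      change (diagonal (fun j => ((((t : Tor F (m + 1) (p ^ a)) : Fin (m + 1) → mu F (p ^ a)) j : Fˣ) : F)) :
        Matrix (Fin (m + 1)) (Fin (m + 1)) F) i i = (diagonal (fun _ => c) : Matrix (Fin (m + 1)) (Fin (m + 1)) F) i i
          at h5
      rwa [diagonal_apply_eq, diagonal_apply_eq] at h5
    have hg : ∀ t : f.ker, (((t : Tor F (m + 1) (p ^ a)) : Fin (m + 1) → mu F (p ^ a)) 0 : Fˣ) ∈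
        mu F (Nat.gcd (m + 1) (p ^ a)) := by
      intro t
      obtain ⟨c, hc, hc1⟩ := hker t
      rw [mem_mu, ← orderOf_dvd_iff_pow_eq_one]
      refine Nat.dvd_gcd ?_ ?_
      · rw [orderOf_dvd_iff_pow_eq_one]
        apply Units.ext
        rw [Units.val_pow_eq_pow_val, hc 0, hc1, Units.val_one]
      · rw [orderOf_dvd_iff_pow_eq_one]
        exact (((t : Tor F (m + 1) (p ^ a)) : Fin (m + 1) → mu F (p ^ a)) 0).2
    have h6 : Nat.card (mu F (Nat.gcd (m + 1) (p ^ a))) = Nat.gcd (m + 1) (p ^ a) :=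
      card_mu ((Nat.gcd_dvd_right _ _).trans hr1)
    rw [← h6]
    refine Nat.card_le_card_of_injective (fun t : f.ker => (⟨_, hg t⟩ : mu F (Nat.gcd (m + 1) (p ^ a)))) ?_
    intro s t hst
    obtain ⟨c, hc, -⟩ := hker s
    obtain ⟨d, hd, -⟩ := hker t
    have h7 : ((((s : Tor F (m + 1) (p ^ a)) : Fin (m + 1) → mu F (p ^ a)) 0 : Fˣ) : F) =
      ((((t : Tor F (m + 1) (p ^ a)) : Fin (m + 1) → mu F (p ^ a)) 0 : Fˣ) : F) :=
        congrArg (fun x : mu F (Nat.gcd (m + 1) (p ^ a)) => ((x : Fˣ) : F)) hst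
    apply Subtype.ext
    apply Subtype.ext
    funext i
    apply Subtype.ext
    apply Units.ext
    rw [hc i, hd i, ← hc 0, h7, hd 0]

end Diag

/-! ### Unipotent elements of `SU_3(q)` -/

section Uni

/-- `1 + a N + b N ^ 2` -/
def Mx (q : ℕ) (c a b : F) : Matrix (Fin 3) (Fin 3) F :=
  !![1 - b, -b * c ^ q, a; -b * c, 1 + b, a * c; -a, -a * c ^ q, 1]

omit [Fintype F] in
theorem Mx_mul {c : F} (hc : c * c ^ q = -1) (a b a' b' : F) :
    Mx q c a b * Mx q c a' b' = Mx q c (a + a') (b + b' + a * a') := by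
  unfold Mx
  ext i j
  fin_cases i <;> fin_cases j <;> simp [Matrix.mul_apply, Fin.sum_univ_three] <;>
    first
    | ring1
    | linear_combination (b * b') * hc
    | linear_combination (-b * a') * hc
    | linear_combination (b * b' - a * a') * hc
    | linear_combination (a * b') * hc
    | linear_combination (-a * a') * hc

omit [Fintype F] in
theorem Mx_zero {c : F} : Mx q c 0 0 = 1 := by
  unfold Mx
  ext i j
  fin_cases i <;> fin_cases j <;> simp

omit [Fintype F] in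
theorem Mx_det {c : F} (hc : c * c ^ q = -1) (a b : F) : (Mx q c a b).det = 1 := by
  unfold Mx
  rw [det_fin_three]
  simp
  linear_combination (b * a ^ 2 - b ^ 2 + a ^ 2) * hc

theorem Mx_unitary (hF : Fintype.card F = q ^ 2) {c : F} (hc : c * c ^ q = -1) {a b : F} (ha : a ^ q = a)
    (hb : b + b ^ q = a ^ 2) : (Mx q c a b)ᵀ * (Mx q c a b).map (fun x => x ^ q) = 1 := by
  have hb' : b ^ q = a ^ 2 - b := by rw [← hb]; ring
  unfold Mx
  ext i j
  fin_cases i <;> fin_cases j <;>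
    simp [Matrix.mul_apply, Fin.sum_univ_three, add_pow_q hF, sub_pow_q hF, neg_pow_q hF, mul_pow, pow_q_pow_q hF,
      ha, hb'] <;>
    first
    | ring1
    | linear_combination (b * (a ^ 2 - b)) * hc
    | linear_combination (-(a * b)) * hc
    | linear_combination (b * (a ^ 2 - b) + a ^ 2) * hc
    | linear_combination (-a * (a ^ 2 - b)) * hc
    | linear_combination (a ^ 2) * hc

/-- the elements `1 + a N + b N ^ 2` of `SU_3(q)` -/
def UU (F : Type*) [Field F] (q : ℕ) {c : F} (hc : c * c ^ q = -1) : Subgroup (SU 3 F q) where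
  carrier := {g | ∃ a b : F, g.1.1 = Mx q c a b}
  one_mem' := ⟨0, 0, by rw [Mx_zero]; rfl⟩
  mul_mem' := by
    rintro g k ⟨a, b, h⟩ ⟨a', b', h'⟩
    refine ⟨a + a', b + b' + a * a', ?_⟩
    change g.1.1 * k.1.1 = _
    rw [h, h', Mx_mul hc]
  inv_mem' := by
    rintro g ⟨a, b, h⟩
    refine ⟨-a, a ^ 2 - b, ?_⟩
    have h1 : g⁻¹.1.1 * g.1.1 = 1 := congrArg (fun z : SU 3 F q => z.1.1) (inv_mul_cancel g)
    have h2 : Mx q c (-a) (a ^ 2 - b) * g.1.1 = 1 := by
      rw [h, Mx_mul hc]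
      have e1 : -a + a = 0 := by ring
      have e2 : a ^ 2 - b + b + -a * a = 0 := by ring
      rw [e1, e2, Mx_zero]
    have h3 : g.1.1 * g⁻¹.1.1 = 1 := mul_eq_one_comm.1 h1
    calc g⁻¹.1.1 = (Mx q c (-a) (a ^ 2 - b) * g.1.1) * g⁻¹.1.1 := by rw [h2, one_mul]
      _ = Mx q c (-a) (a ^ 2 - b) := by rw [mul_assoc, h3, mul_one]

omit [Fintype F] in
theorem UU_comm {c : F} (hc : c * c ^ q = -1) : ∀ x ∈ UU F q hc, ∀ y ∈ UU F q hc, x * y = y * x := by
  rintro g ⟨a, b, h⟩ k ⟨a', b', h'⟩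
  apply mtx_injective 3 q
  rw [map_mul, map_mul]
  change g.1.1 * k.1.1 = k.1.1 * g.1.1
  rw [h, h', Mx_mul hc, Mx_mul hc]
  congr 1 <;> ring

omit [Fintype F] in
theorem Mx_pow {c : F} (hc : c * c ^ q = -1) (a b : F) (k : ℕ) :
    Mx q c a b ^ k = Mx q c (k * a) (k * b + (k.choose 2 : ℕ) * a ^ 2) := by
  induction k with
  | zero => simp [Mx_zero]
  | succ k ih =>
    rw [pow_succ, ih, Mx_mul hc]
    congr 1
    · push_cast; ring
    · rw [Nat.choose_succ_succ' k 1, Nat.choose_one_right]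
      push_cast
      ring

omit [Fintype F] in
theorem UU_isPGroup {c : F} (hc : c * c ^ q = -1) [Fact p.Prime] [CharP F p] (hp2 : p ≠ 2) :
    IsPGroup p (UU F q hc) := by
  rintro ⟨g, a, b, h⟩
  refine ⟨1, Subtype.ext (mtx_injective 3 q ?_)⟩
  change mtx 3 F q (g ^ p ^ 1) = mtx 3 F q 1
  rw [map_pow, map_one, pow_one]
  change g.1.1 ^ p = 1
  have hp0 : (p : F) = 0 := CharP.cast_eq_zero F p
  have h2 : ((p.choose 2 : ℕ) : F) = 0 := by
    rw [CharP.cast_eq_zero_iff F p]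
    have hp := (Fact.out : p.Prime)
    have := hp.two_le
    exact hp.dvd_choose_self (by norm_num) (by omega)
  rw [h, Mx_pow hc, hp0, h2, zero_mul, zero_mul, zero_mul, add_zero, Mx_zero]

theorem card_UU (hF : Fintype.card F = q ^ 2) {c : F} (hc : c * c ^ q = -1) (h2 : (2 : F) ≠ 0) :
    q ^ 2 ≤ Nat.card (UU F q hc) := by
  classical
  obtain ⟨d, hd0, hd⟩ := exists_trace_zero_ne hF
  have hdq : d ^ q = -d := by rw [eq_neg_iff_add_eq_zero, add_comm]; exact hd
  have h2q : (2 : F) ^ q = 2 := by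
    have : (2 : F) = 1 + 1 := by norm_num
    rw [this, add_pow_q hF, one_pow]
  have hmem : ∀ x : {x : F // x ^ q = x} × {x : F // x ^ q = x},
      (x.1.1 ^ 2 / 2 + x.2.1 * d) + (x.1.1 ^ 2 / 2 + x.2.1 * d) ^ q = x.1.1 ^ 2 := by
    rintro ⟨⟨x, hx⟩, ⟨y, hy⟩⟩
    change (x ^ 2 / 2 + y * d) + (x ^ 2 / 2 + y * d) ^ q = x ^ 2
    rw [add_pow_q hF, div_pow, ← pow_mul, mul_comm 2 q, pow_mul, hx, h2q, mul_pow, hy, hdq]
    field_simp
    ring
  let f : {x : F // x ^ q = x} × {x : F // x ^ q = x} → UU F q hc := fun x =>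
    ⟨⟨⟨Mx q c x.1.1 (x.1.1 ^ 2 / 2 + x.2.1 * d), Mx_det hc _ _⟩,
      mem_SU_of_mul hF (Mx_unitary hF hc x.1.2 (hmem x))⟩, _, _, rfl⟩
  have hf : Function.Injective f := by
    rintro ⟨⟨x, hx⟩, ⟨y, hy⟩⟩ ⟨⟨x', hx'⟩, ⟨y', hy'⟩⟩ h
    have h3 : Mx q c x (x ^ 2 / 2 + y * d) = Mx q c x' (x' ^ 2 / 2 + y' * d) :=
      congrArg (fun z : UU F q hc => z.1.1.1) h
    have h4 : x = x' := congrFun (congrFun h3 0) 2
    have h5 : 1 + (x ^ 2 / 2 + y * d) = 1 + (x' ^ 2 / 2 + y' * d) := congrFun (congrFun h3 1) 1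
    subst h4
    have h6 : y = y' := by
      have : y * d = y' * d := by linear_combination h5
      exact mul_right_cancel₀ hd0 this
    subst h6
    rfl
  have h7 := Nat.card_le_card_of_injective f hf
  rwa [Nat.card_prod, card_fixed hF, ← sq] at h7

/-- **an abelian subgroup of order `q ^ 2` of `SU_3(q)`** in odd characteristic `p` -/
theorem uni_three (hF : Fintype.card F = q ^ 2) [Fact p.Prime] [CharP F p] (hp2 : p ≠ 2) :
    ∃ A : Subgroup (SU 3 F q), IsPGroup p A ∧ (∀ x ∈ A, ∀ y ∈ A, x * y = y * x) ∧ q ^ 2 ≤ Nat.card A := by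
  obtain ⟨c, hc⟩ := exists_norm_eq hF (show (-1 : F) ^ q = -1 by rw [neg_pow_q hF, one_pow])
  have h2 : (2 : F) ≠ 0 := by
    intro h
    have h1 : ((2 : ℕ) : F) = 0 := by exact_mod_cast h
    rw [CharP.cast_eq_zero_iff F p] at h1
    exact hp2 ((Nat.prime_dvd_prime_iff_eq Fact.out Nat.prime_two).1 h1)
  exact ⟨UU F q hc, UU_isPGroup hc hp2, UU_comm hc, card_UU hF hc h2⟩

end Uni

end Cfsg.Agent.H383.M5.UniTori
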